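import Groth.Agent.Lib.Lead.PN.ClosedSub
import Groth.Agent.Lib.Lead.PN.Finite
import Groth.Agent.Lib.Lead.PN.H0Lin

/-! # Finiteness of cohomology on closed subschemes of projective space; `H⁰ = Γ` linearly. -/

set_option autoImplicit false
universe u
open CategoryTheory Limits AlgebraicGeometry TopologicalSpace Opposite

namespace Groth.Agent.LD.PF

/-- **finiteness of coherent cohomology on a closed subscheme of `P^N_R`**, `R` noetherian. -/
theorem finite_HH_of_closedImmersion (N : ℕ) (R : Type u) [CommRing R] [IsNoetherianRing R]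
    {X : Scheme.{u}} (i : X ⟶ Proj (CohB1.polyGrading N R)) [IsClosedImmersion i]
    [X.Over (Spec (CommRingCat.of R))] [i.IsOver (Spec (CommRingCat.of R))]
    (F : X.Modules) (hF : Coh.IsCoh F) (p : ℕ) : Module.Finite R (Coh.HH X F p) := by
  haveI := PN.finite_HH_coh' N R _ (PN.isCoh_push N R i F hF) p
  exact Module.Finite.equiv (CL.HHpushEquiv i R F p).symm

variable (R : Type u) [CommRing R] {X : Scheme.{u}} [X.Over (Spec (CommRingCat.of R))]

/-- the `R`-module structure on global sections. -/
noncomputable abbrev moduleΓ (M : X.Modules) : Module R (M.val.obj (op ⊤)) :=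
  Module.compHom (M.val.obj (op ⊤))
    (show R →+* (X.ringCatSheaf.obj.obj (op ⊤)) from Coh.toGlobal (X ↘ Spec (CommRingCat.of R)))

/-- `H⁰(X, M) ≃ Γ(X, M)`, linearly over the base ring. -/
noncomputable def H0LinearEquivΓ (M : X.Modules) :
    letI := moduleΓ R M
    Coh.HH X M 0 ≃ₗ[R] M.val.obj (op ⊤) :=
  letI := moduleΓ R M
  { (Sheaf.H.equiv₀ (Coh.toAb M) (isTerminalTop (α := X.Opens))) with
    map_smul' := fun r x => PN.equiv₀_smul M (Coh.toGlobal (X ↘ Spec (CommRingCat.of R)) r) x }

theorem finite_Γ_of_finite_HH (M : X.Modules) [Module.Finite R (Coh.HH X M 0)] :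
    letI := moduleΓ R M
    Module.Finite R (M.val.obj (op ⊤)) :=
  letI := moduleΓ R M
  Module.Finite.equiv (H0LinearEquivΓ R M)

end Groth.Agent.LD.PF
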