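import Groth.Agent.Lib.Lead.PF.Main

/-! # Finiteness of coherent cohomology for proper schemes over a noetherian ring: assembly. -/

set_option autoImplicit false
universe u
open CategoryTheory Limits AlgebraicGeometry TopologicalSpace Opposite

namespace Groth.Agent.LD.PF

open Chow

variable (A : Type u) [CommRing A] [IsNoetherianRing A]

/-- the dévissage sheaf attached to an integral closed subscheme. -/
theorem exists_devissage_sheaf (hbc : BCHyp A) (hL : LerayHyp A) (hS : StalkHyp.{u})
    (X : Scheme.{u}) [X.Over (Spec (CommRingCat.of A))]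
    [IsProper (X ↘ Spec (CommRingCat.of A))]
    (Z : Scheme.{u}) (i : Z ⟶ X) [IsClosedImmersion i] [IsIntegral Z] :
    ∃ G : X.Modules, Coh.IsCoh G ∧ CohB1.support G = Set.range ⇑i ∧
      Nonempty (↑(G.presheaf.stalk (i (genericPoint Z))) ≃ₗ[X.presheaf.stalk (i (genericPoint Z))]
        IsLocalRing.ResidueField (X.presheaf.stalk (i (genericPoint Z)))) ∧ FinCoh A G := by
  set fZ : Z ⟶ Spec (CommRingCat.of A) := i ≫ (X ↘ Spec (CommRingCat.of A)) with hfZ
  haveI : IsProper fZ := inferInstance
  obtain ⟨N, Z', c, X₀, hc, hq, hX₀, hiso⟩ := chow_lemma A fZ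
  haveI : CompactSpace Z := (quasiCompact_iff_compactSpace fZ).mp inferInstance
  haveI : IsLocallyNoetherian Z := LocallyOfFiniteType.isLocallyNoetherian fZ
  have hbc' : ∀ (W : Z.Opens) (hW : IsAffineOpen W), Nonempty (ProjBC N (φW fZ hW)) :=
    fun W hW => hbc N _ _
  obtain ⟨n₀, hvan⟩ := relative_vanishing c hbc'
  set π := c ≫ pullback.fst fZ (pStr N A) with hπ
  set q := c ≫ pullback.snd fZ (pStr N A) with hq'
  set L := Lmod c n₀ with hLdef
  have hLcoh : Coh.IsCoh L := isCoh_Lmod c n₀
  have hLinv : PicF.IsInvertible L := QC.isInvertible_pullback _ (PN.isInvertible_twist N A n₀)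
  have hπL : Coh.IsCoh ((Scheme.Modules.pushforward π).obj L) := isCoh_push_Lmod c hbc' n₀
  have hG : Coh.IsCoh ((Scheme.Modules.pushforward i).obj ((Scheme.Modules.pushforward π).obj L)) := by
    haveI := hπL.1
    exact ⟨QC.qc_pushforward i _, QC.isFiniteType_pushforward_of_isFinite i _ hπL.2⟩
  obtain ⟨hsimple, hsupp⟩ := hS X Z Z' i π X₀ hX₀ hiso L hLinv hG
  refine ⟨_, hG, hsupp, ?_, ?_⟩
  · haveI := hsimple
    exact nonempty_linearEquiv_residueField_of_isSimpleModule _ _
  · intro p
    letI : Z.Over (Spec (CommRingCat.of A)) := ⟨fZ⟩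
    haveI : i.IsOver (Spec (CommRingCat.of A)) := ⟨rfl⟩
    letI : Z'.Over (Spec (CommRingCat.of A)) := ⟨π ≫ fZ⟩
    haveI : π.IsOver (Spec (CommRingCat.of A)) := ⟨rfl⟩
    haveI : q.IsOver (Spec (CommRingCat.of A)) := ⟨by
      change q ≫ pStr N A = π ≫ fZ
      rw [hπ, hq', Category.assoc, Category.assoc, pullback.condition]⟩
    haveI : IsClosedImmersion q := hq
    haveI : Module.Finite A (Coh.HH Z' L p) := finite_HH_of_closedImmersion N A q L hLcoh p
    obtain ⟨e⟩ := hL Z' Z π L (hvan n₀ le_rfl) p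
    haveI : Module.Finite A (Coh.HH Z ((Scheme.Modules.pushforward π).obj L) p) :=
      Module.Finite.equiv e.symm
    exact Module.Finite.equiv (CL.HHpushEquiv i A ((Scheme.Modules.pushforward π).obj L) p)

/-- **finiteness of coherent cohomology for proper schemes over a noetherian ring**, modulo the
three inputs. -/
theorem finite_HH_of_isProper (hbc : BCHyp A) (hL : LerayHyp A) (hS : StalkHyp.{u})
    (X : Scheme.{u}) [X.Over (Spec (CommRingCat.of A))]
    [IsProper (X ↘ Spec (CommRingCat.of A))] (M : X.Modules) (hM : Coh.IsCoh M) (n : ℕ) :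
    Module.Finite A (Coh.HH X M n) := by
  by_cases hX : Nonempty X
  · haveI : CompactSpace X :=
      (quasiCompact_iff_compactSpace (X ↘ Spec (CommRingCat.of A))).mp inferInstance
    haveI : IsLocallyNoetherian X :=
      LocallyOfFiniteType.isLocallyNoetherian (X ↘ Spec (CommRingCat.of A))
    haveI : IsNoetherian X := {}
    exact Groth.Agent.S0818.result X (FinCoh A) (fun M N ⟨e⟩ h => finCoh_of_iso A e h)
      (fun S hS _ _ _ => ⟨finCoh_X₃ A hS, finCoh_X₂ A hS, finCoh_X₁ A hS⟩)
      (fun Z i _ _ => exists_devissage_sheaf A hbc hL hS X Z i) M hM n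
  · have hsupp : CohB1.support M = ∅ := by
      ext x
      exact (hX ⟨x⟩).elim
    haveI := CL.subsingleton_HH_of_isZero (QC.isZero_of_support_eq_empty hsupp) n
    exact Module.Finite.of_finite

end Groth.Agent.LD.PF
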