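import Groth.Agent.Lib.Lead.PF.Local
import Groth.Agent.Lib.Lead.FBC.BasicOpen
import Groth.Agent.Lib.Lead.SC.Restrict
import Groth.Agent.Lib.Lead.PN.Compact
import Groth.Agent.Lib.Lead.QC.FreeData
import Groth.Agent.Lib.Lead.QC.SubExtRestrict
import Groth.Agent.Lib.Lead.QC.PullInv

/-! # Finiteness for proper morphisms: local vanishing of higher cohomology of high twists. -/

set_option autoImplicit false
universe u
open CategoryTheory Limits AlgebraicGeometry TopologicalSpace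

namespace Groth.Agent.LD.PF

open Chow

variable {A : Type u} [CommRing A] {Z : Scheme.{u}} {f : Z ⟶ Spec (CommRingCat.of A)} {N : ℕ}
  {Z' : Scheme.{u}} (c : Z' ⟶ pullback f (pStr N A))
  {W : Z.Opens} {hW : IsAffineOpen W} (h : ProjBC N (φW f hW))

/-- the twisting sheaf `O(n)` pulled back to `Z'`. -/
noncomputable def Lmod (n : ℤ) : Z'.Modules :=
  (Scheme.Modules.pullback (c ≫ pullback.snd f (pStr N A))).obj
    (Twist.twist (CohB1.polyGrading N A) n)

/-- over `W`, the module `Lmod n` is the `n`-th twist of the structure sheaf of `Y ⊆ P^N_B`. -/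
noncomputable def restrictIso (n : ℤ) :
    (Lmod c n).restrict (ιY c h) ≅ PN.twOn N Γ(Z, W) (jY c h) (QC.unitMod (Y c h)) n :=
  (Scheme.Modules.restrictFunctorIsoPullback (ιY c h)).app _ ≪≫
    (Scheme.Modules.pullbackComp (ιY c h) (c ≫ pullback.snd f (pStr N A))).app _ ≪≫
    (Scheme.Modules.pullbackCongr (ιY_q c h)).app _ ≪≫
    ((Scheme.Modules.pullbackComp (jY c h) h.bc).app _).symm ≪≫
    (Scheme.Modules.pullback (jY c h)).mapIso (h.twistIso n) ≪≫
    (QC.unitorL' _).symm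

lemma isCoh_unitMod (X : Scheme.{u}) : Coh.IsCoh (QC.unitMod X) :=
  ⟨QC.qc_of_isInvertible _ (QC.isInvertible_unit X),
    QC.isFiniteType_of_isInvertible _ (QC.isInvertible_unit X)⟩

variable [IsClosedImmersion c]

instance : CompactSpace (Y c h) := (jY c h).isClosedEmbedding.compactSpace

instance : QuasiSeparatedSpace (Y c h) := by
  haveI : QuasiSeparatedSpace (Proj (CohB1.polyGrading N Γ(Z, W))) :=
    TW.quasiSeparatedSpace_proj (𝒜 := CohB1.polyGrading N Γ(Z, W))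
  exact quasiSeparatedSpace_of_quasiSeparated (jY c h)

/-- the function `g ∈ Γ(Z, W)` on `Y`. -/
noncomputable def gY (g : Γ(Z, W)) : Γ(Y c h, ⊤) :=
  (jY c h ≫ pStr N Γ(Z, W)).appTop.hom ((Scheme.ΓSpecIso Γ(Z, W)).inv.hom g)

lemma basicOpen_gY (g : Γ(Z, W)) :
    (Y c h).basicOpen (gY c h g) =
      ιY c h ⁻¹ᵁ ((c ≫ pullback.fst f (pStr N A)) ⁻¹ᵁ Z.basicOpen g) := by
  rw [← Scheme.Hom.comp_preimage, ιY_π, Scheme.Hom.comp_preimage,
    hW.fromSpec_preimage_basicOpen']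
  exact (Scheme.preimage_basicOpen_top (jY c h ≫ pStr N Γ(Z, W)) _).symm

lemma image_basicOpen_gY (g : Γ(Z, W)) :
    ιY c h ''ᵁ (Y c h).basicOpen (gY c h g) =
      (c ≫ pullback.fst f (pStr N A)) ⁻¹ᵁ Z.basicOpen g := by
  rw [basicOpen_gY, Scheme.Hom.image_preimage_eq_opensRange_inf, opensRange_ιY]
  apply inf_eq_right.mpr
  intro x hx
  exact Z.basicOpen_le g hx

include h in
/-- **local vanishing**: over an affine open `W` of `Z`, the higher cohomology of high twists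
vanishes on the preimages of all basic opens of `W`, uniformly. -/
theorem local_vanishing [IsNoetherianRing Γ(Z, W)] :
    ∃ n₀ : ℤ, ∀ n : ℤ, n₀ ≤ n → ∀ (g : Γ(Z, W)) (p : ℕ),
      Subsingleton (Abelian.Ext
        (SC.ZU (SC.JX Z') ((c ≫ pullback.fst f (pStr N A)) ⁻¹ᵁ Z.basicOpen g))
        (Coh.toAb (Lmod c n)) (p + 1)) := by
  obtain ⟨n₀, hn₀⟩ := PN.serre_vanishing_on N Γ(Z, W) (jY c h) (QC.unitMod (Y c h))
    (isCoh_unitMod _)
  refine ⟨n₀, fun n hn g p => ?_⟩
  haveI h1 : Subsingleton (Coh.HH (Y c h) ((Lmod c n).restrict (ιY c h)) (p + 1)) := by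
    haveI := hn₀ n hn (p + 1) (Nat.succ_pos p)
    exact (FBC.HHAddEquivOfIso (restrictIso c h n) (p + 1)).toEquiv.subsingleton
  haveI hqc : ((Lmod c n).restrict (ιY c h)).IsQuasicoherent := by
    haveI : (Lmod c n).IsQuasicoherent := by
      unfold Lmod
      exact QC.qc_of_isInvertible _ (QC.isInvertible_pullback _ (PN.isInvertible_twist N A n))
    exact QC.qc_restrict _ _
  obtain ⟨e1⟩ := FBC.basicOpen_localization (Y c h) (gY c h g)
    ((Lmod c n).restrict (ιY c h)) (p + 1)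
  letI : Module Γ(Y c h, ⊤) (Coh.HH (Y c h) ((Lmod c n).restrict (ιY c h)) (p + 1)) :=
    Module.compHom _ (Coh.toGlobal (Y c h).toSpecΓ)
  haveI h2 : Subsingleton (Coh.HHon (Y c h) ((Lmod c n).restrict (ιY c h))
      ((Y c h).basicOpen (gY c h g)) (p + 1)) := e1.toEquiv.subsingleton
  obtain ⟨e2⟩ := SC.HH_restrict_equiv ((Y c h).basicOpen (gY c h g)).ι
    ((Lmod c n).restrict (ιY c h)) (p + 1)
  rw [Scheme.Opens.opensRange_ι] at e2
  haveI h3 := e2.symm.toEquiv.subsingleton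
  obtain ⟨e3⟩ := SC.ext_resAb_equiv (ιY c h) (p + 1) (Coh.toAb (Lmod c n))
    ((Y c h).basicOpen (gY c h g))
  rw [image_basicOpen_gY] at e3
  haveI h4 : Subsingleton (Abelian.Ext (SC.ZU (SC.JX (Y c h)) ((Y c h).basicOpen (gY c h g)))
      ((SC.resAb (ιY c h)).obj (Coh.toAb (Lmod c n))) (p + 1)) := h3
  exact e3.symm.toEquiv.subsingleton

end Groth.Agent.LD.PF
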