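import Groth.Agent.Lib.Lead.PF.LocalVanish
import Groth.Agent.Lib.Lead.SC.RPush

/-! # Finiteness for proper morphisms: relative vanishing of `R^p π_*` of high twists. -/

set_option autoImplicit false
universe u
open CategoryTheory Limits AlgebraicGeometry TopologicalSpace

namespace Groth.Agent.LD.PF

open Chow

variable {A : Type u} [CommRing A] {Z : Scheme.{u}} {f : Z ⟶ Spec (CommRingCat.of A)} {N : ℕ}
  {Z' : Scheme.{u}} (c : Z' ⟶ pullback f (pStr N A)) [IsClosedImmersion c]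

/-- a finite affine open cover of a quasi-compact scheme. -/
lemma exists_finite_affine_cover (Z : Scheme.{u}) [CompactSpace Z] :
    ∃ t : Finset Z.affineOpens, ∀ x : Z, ∃ U ∈ t, x ∈ U.1 := by
  have hcov : (Set.univ : Set Z) ⊆ ⋃ U : Z.affineOpens, (U.1 : Set Z) := by
    intro x _
    have : x ∈ (⨆ U : Z.affineOpens, (U : Z.Opens)) := by
      rw [iSup_affineOpens_eq_top]; trivial
    obtain ⟨U, hU⟩ := Opens.mem_iSup.mp this
    exact Set.mem_iUnion.mpr ⟨U, hU⟩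
  obtain ⟨t, ht⟩ := isCompact_univ.elim_finite_subcover (fun U : Z.affineOpens => (U.1 : Set Z))
    (fun U => U.1.2) hcov
  refine ⟨t, fun x => ?_⟩
  obtain ⟨V, hV⟩ := Set.mem_iUnion.mp (ht (Set.mem_univ x))
  obtain ⟨hVt, hxV⟩ := Set.mem_iUnion.mp hV
  exact ⟨V, hVt, hxV⟩

/-- **relative vanishing.** -/
theorem relative_vanishing [IsLocallyNoetherian Z] [CompactSpace Z]
    (hbc : ∀ (W : Z.Opens) (hW : IsAffineOpen W), Nonempty (ProjBC N (φW f hW))) :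
    ∃ n₀ : ℤ, ∀ n : ℤ, n₀ ≤ n → ∀ p : ℕ,
      IsZero (((SC.pushAb (c ≫ pullback.fst f (pStr N A)).base).rightDerived (p + 1)).obj
        (Coh.toAb (Lmod c n))) := by
  classical
  obtain ⟨t, ht⟩ := exists_finite_affine_cover Z
  have hloc : ∀ W : Z.affineOpens, ∃ n₀ : ℤ, ∀ n : ℤ, n₀ ≤ n → ∀ (g : Γ(Z, W.1)) (p : ℕ),
      Subsingleton (Abelian.Ext
        (SC.ZU (SC.JX Z') ((c ≫ pullback.fst f (pStr N A)) ⁻¹ᵁ Z.basicOpen g))
        (Coh.toAb (Lmod c n)) (p + 1)) := by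
    intro W
    obtain ⟨h⟩ := hbc W.1 W.2
    haveI : IsNoetherianRing Γ(Z, W.1) := IsLocallyNoetherian.component_noetherian W
    exact local_vanishing c h
  choose n₀ hn₀ using hloc
  refine ⟨((t.sup (fun W => (n₀ W).toNat) : ℕ) : ℤ), fun n hn p => ?_⟩
  have hle : ∀ W ∈ t, n₀ W ≤ n := by
    intro W hW
    have h1 : (n₀ W).toNat ≤ t.sup (fun W => (n₀ W).toNat) :=
      Finset.le_sup (f := fun W => (n₀ W).toNat) hW
    have h2 : n₀ W ≤ ((n₀ W).toNat : ℤ) := Int.self_le_toNat _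
    have h3 : (((n₀ W).toNat : ℕ) : ℤ) ≤ ((t.sup (fun W => (n₀ W).toNat) : ℕ) : ℤ) := by
      exact_mod_cast h1
    linarith
  let 𝔅 : Set Z.Opens := {V | ∃ W ∈ t, ∃ g : Γ(Z, W.1), V = Z.basicOpen g}
  have h𝔅 : Opens.IsBasis 𝔅 := by
    rw [Opens.isBasis_iff_nbhd]
    intro U x hx
    obtain ⟨W, hWt, hxW⟩ := ht x
    obtain ⟨g, hgU, hxg⟩ := W.2.exists_basicOpen_le ⟨x, hx⟩ hxW
    exact ⟨Z.basicOpen g, ⟨W, hWt, g, rfl⟩, hxg, hgU⟩
  refine SC.isZero_rightDerived_push (f := (c ≫ pullback.fst f (pStr N A)).base) 𝔅 h𝔅 0 ?_ p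
    (Nat.zero_le p)
  rintro V ⟨W, hWt, g, rfl⟩ i -
  exact hn₀ W n (hle W hWt) g i

end Groth.Agent.LD.PF
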