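import Groth.Agent.Lib.Lead.PF.LocalCoh
import Groth.Agent.Lib.Lead.PF.RelVanish

/-! # Finiteness for proper morphisms: coherence of `π_* O(n)`. -/

set_option autoImplicit false
universe u
open CategoryTheory Limits AlgebraicGeometry TopologicalSpace Opposite

namespace Groth.Agent.LD.PF

open Chow

instance quasiCompact_pStr (N : ℕ) (A : Type u) [CommRing A] : QuasiCompact (pStr N A) :=
  (quasiCompact_iff_compactSpace _).mpr (PN.compactSpace_projPoly N A)

variable {A : Type u} [CommRing A] {Z : Scheme.{u}} {f : Z ⟶ Spec (CommRingCat.of A)} {N : ℕ}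
  {Z' : Scheme.{u}} (c : Z' ⟶ pullback f (pStr N A)) [IsClosedImmersion c]

instance : QuasiCompact (c ≫ pullback.fst f (pStr N A)) := inferInstance

instance : QuasiSeparated (c ≫ pullback.fst f (pStr N A)) := inferInstance

/-- **coherence of the direct image of the twists.** -/
theorem isCoh_push_Lmod [IsLocallyNoetherian Z]
    (hbc : ∀ (W : Z.Opens) (hW : IsAffineOpen W), Nonempty (ProjBC N (φW f hW))) (n : ℤ) :
    Coh.IsCoh ((Scheme.Modules.pushforward (c ≫ pullback.fst f (pStr N A))).obj (Lmod c n)) := by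
  haveI := (isCoh_Lmod c n).1
  haveI hqc := QC.qc_pushforward (c ≫ pullback.fst f (pStr N A)) (Lmod c n)
  refine ⟨hqc, QC.isFiniteType_of_finite_sections _ fun x => ?_⟩
  obtain ⟨W, hW, hxW, -⟩ := exists_isAffineOpen_mem_and_subset (x := x) (U := ⊤) trivial
  obtain ⟨h⟩ := hbc W hW
  haveI : IsNoetherianRing Γ(Z, W) := IsLocallyNoetherian.component_noetherian ⟨W, hW⟩
  exact ⟨W, hW, hxW, finite_sections_push_Lmod c h n⟩

end Groth.Agent.LD.PF
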