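import Groth.Agent.Lib.Lead.Chow.Lemma
import Groth.Agent.Lib.Lead.PN.ClosedSubEuler
import Groth.Agent.Lib.Lead.PN.Finite

/-! # Finiteness for proper morphisms: the local set-up over an affine open of `Z`. -/

set_option autoImplicit false
universe u
open CategoryTheory Limits AlgebraicGeometry TopologicalSpace

namespace Groth.Agent.LD.PF

open Chow

/-- base change of projective space along a ring map, with the twisting sheaves (interface). -/
structure ProjBC (N : ℕ) {A B : Type u} [CommRing A] [CommRing B] (φ : A →+* B) where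
  bc : Proj (CohB1.polyGrading N B) ⟶ Proj (CohB1.polyGrading N A)
  isPullback : IsPullback bc (pStr N B) (pStr N A) (Spec.map (CommRingCat.ofHom φ))
  twistIso : ∀ n : ℤ, (Scheme.Modules.pullback bc).obj (Twist.twist (CohB1.polyGrading N A) n) ≅
    Twist.twist (CohB1.polyGrading N B) n

variable {A : Type u} [CommRing A] {Z : Scheme.{u}} (f : Z ⟶ Spec (CommRingCat.of A)) (N : ℕ)
  {Z' : Scheme.{u}} (c : Z' ⟶ pullback f (pStr N A))
  {W : Z.Opens} (hW : IsAffineOpen W)

/-- the ring map `A → Γ(Z, W)`. -/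
noncomputable def φW : A →+* Γ(Z, W) := (Spec.preimage (hW.fromSpec ≫ f)).hom

lemma SpecMap_φW : Spec.map (CommRingCat.ofHom (φW f hW)) = hW.fromSpec ≫ f :=
  Spec.map_preimage _

variable {f N hW} (h : ProjBC N (φW f hW))

/-- the open immersion `P^N_B → Z ×_A P^N_A`, `B = Γ(Z, W)`. -/
noncomputable def κ : Proj (CohB1.polyGrading N Γ(Z, W)) ⟶ pullback f (pStr N A) :=
  pullback.lift (pStr N Γ(Z, W) ≫ hW.fromSpec) h.bc (by
    rw [Category.assoc, ← SpecMap_φW]
    exact h.isPullback.w.symm)

lemma κ_fst : κ h ≫ pullback.fst f (pStr N A) = pStr N Γ(Z, W) ≫ hW.fromSpec :=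
  pullback.lift_fst _ _ _

lemma κ_snd : κ h ≫ pullback.snd f (pStr N A) = h.bc :=
  pullback.lift_snd _ _ _

lemma isPullback_κ :
    IsPullback (κ h) (pStr N Γ(Z, W)) (pullback.fst f (pStr N A)) hW.fromSpec := by
  have hbig : IsPullback (κ h ≫ pullback.snd f (pStr N A)) (pStr N Γ(Z, W)) (pStr N A)
      (hW.fromSpec ≫ f) := by
    rw [κ_snd, ← SpecMap_φW]
    exact h.isPullback
  exact IsPullback.of_right hbig (κ_fst h) (IsPullback.of_hasPullback f (pStr N A)).flip

instance : IsOpenImmersion (κ h) :=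
  MorphismProperty.of_isPullback (P := @IsOpenImmersion) (isPullback_κ h).flip inferInstance

lemma range_κ : Set.range (κ h) = (pullback.fst f (pStr N A)) ⁻¹' (W : Set Z) := by
  have := Scheme.image_preimage_eq_of_isPullback (isPullback_κ h).flip Set.univ
  rw [Set.preimage_univ, Set.image_univ, Set.image_univ, hW.range_fromSpec] at this
  exact this

/-- the part of `Z'` over `W`. -/
noncomputable abbrev Y : Scheme.{u} := pullback c (κ h)

/-- the open immersion `Y → Z'`. -/
noncomputable abbrev ιY : Y c h ⟶ Z' := pullback.fst c (κ h)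

/-- the closed immersion `Y → P^N_B`. -/
noncomputable abbrev jY : Y c h ⟶ Proj (CohB1.polyGrading N Γ(Z, W)) := pullback.snd c (κ h)

instance [IsClosedImmersion c] : IsClosedImmersion (jY c h) :=
  MorphismProperty.pullback_snd (P := @IsClosedImmersion) _ _ inferInstance

lemma ιY_q : ιY c h ≫ (c ≫ pullback.snd f (pStr N A)) = jY c h ≫ h.bc := by
  rw [← Category.assoc, pullback.condition, Category.assoc, κ_snd]

lemma ιY_π : ιY c h ≫ (c ≫ pullback.fst f (pStr N A)) =
    (jY c h ≫ pStr N Γ(Z, W)) ≫ hW.fromSpec := by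
  rw [← Category.assoc, pullback.condition, Category.assoc, κ_fst, Category.assoc]

lemma opensRange_ιY : (ιY c h).opensRange = (c ≫ pullback.fst f (pStr N A)) ⁻¹ᵁ W := by
  rw [Scheme.Hom.opensRange_pullbackFst]
  ext x
  change c x ∈ Set.range (κ h) ↔ _
  rw [range_κ]
  rfl

end Groth.Agent.LD.PF
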