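import Groth.Agent.Lib.Lead.PF.LocalVanish
import Groth.Agent.Lib.Lead.PF.ProjFinite
import Groth.Agent.Lib.Lead.QC.FinType

/-! # Finiteness for proper morphisms: coherence of the direct image of the twists. -/

set_option autoImplicit false
universe u
open CategoryTheory Limits AlgebraicGeometry TopologicalSpace Opposite

namespace Groth.Agent.LD.PF

open Chow

lemma appLE_comp_fromSpec {Y Z : Scheme.{u}} {W : Z.Opens} (hW : IsAffineOpen W)
    (u : Y ⟶ Spec Γ(Z, W)) (e : (⊤ : Y.Opens) ≤ (u ≫ hW.fromSpec) ⁻¹ᵁ W) (b : Γ(Z, W)) :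
    ((u ≫ hW.fromSpec).appLE W ⊤ e).hom b =
      u.appTop.hom ((Scheme.ΓSpecIso Γ(Z, W)).inv.hom b) := by
  have e' : (⊤ : (Spec Γ(Z, W)).Opens) ≤ hW.fromSpec ⁻¹ᵁ W := by
    rw [hW.fromSpec_preimage_self]
  have h1 : (u ≫ hW.fromSpec).appLE W ⊤ e =
      hW.fromSpec.appLE W ⊤ e' ≫ u.appLE ⊤ ⊤ le_top := by
    rw [Scheme.Hom.appLE_comp_appLE]
  have h2 : hW.fromSpec.appLE W ⊤ e' = (Scheme.ΓSpecIso Γ(Z, W)).inv := by
    rw [Scheme.Hom.appLE, hW.fromSpec_app_self, Category.assoc, ← Functor.map_comp]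
    convert Category.comp_id _
    exact (Spec Γ(Z, W)).presheaf.map_id _
  have h3 : u.appLE ⊤ ⊤ le_top = u.appTop := by
    rw [Scheme.Hom.appLE, Scheme.Hom.appTop]
    exact (congrArg (fun t => u.app ⊤ ≫ t) (Y.presheaf.map_id _)).trans (Category.comp_id _)
  rw [h1, h2, h3]
  rfl

variable {A : Type u} [CommRing A] {Z : Scheme.{u}} {f : Z ⟶ Spec (CommRingCat.of A)} {N : ℕ}
  {Z' : Scheme.{u}} (c : Z' ⟶ pullback f (pStr N A)) [IsClosedImmersion c]
  {W : Z.Opens} {hW : IsAffineOpen W} (h : ProjBC N (φW f hW))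

lemma isCoh_Lmod (n : ℤ) : Coh.IsCoh (Lmod c n) := by
  have hinv : PicF.IsInvertible (Lmod c n) :=
    QC.isInvertible_pullback _ (PN.isInvertible_twist N A n)
  exact ⟨QC.qc_of_isInvertible _ hinv, QC.isFiniteType_of_isInvertible _ hinv⟩

lemma restrict_smul {X Y : Scheme.{u}} (j : Y ⟶ X) [IsOpenImmersion j] (M : X.Modules)
    (U : Y.Opens) (r : Γ(Y, U)) (s : Γ(M.restrict j, U)) :
    r • s = (show Γ(M.restrict j, U) from
      ((j.appIso U).inv.hom r) • (show Γ(M, j ''ᵁ U) from s)) := rfl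

include h in
/-- **local finiteness of the sections of the direct image.** -/
theorem finite_sections_push_Lmod [IsNoetherianRing Γ(Z, W)] (n : ℤ) :
    Module.Finite Γ(Z, W)
      Γ((Scheme.Modules.pushforward (c ≫ pullback.fst f (pStr N A))).obj (Lmod c n), W) := by
  letI : (Y c h).Over (Spec (CommRingCat.of Γ(Z, W))) := ⟨jY c h ≫ pStr N Γ(Z, W)⟩
  haveI : (jY c h).IsOver (Spec (CommRingCat.of Γ(Z, W))) := ⟨rfl⟩
  have hF : Coh.IsCoh ((Lmod c n).restrict (ιY c h)) := by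
    haveI := (isCoh_Lmod c n).1
    refine ⟨QC.qc_restrict _ _, ?_⟩
    haveI := QC.qc_pullback (ιY c h) (Lmod c n)
    exact QC.isFiniteType_of_iso
      ((Scheme.Modules.restrictFunctorIsoPullback (ιY c h)).app (Lmod c n)).symm
      (QC.isFiniteType_pullback (ιY c h) (Lmod c n) (isCoh_Lmod c n).2)
  haveI : Module.Finite Γ(Z, W) (Coh.HH (Y c h) ((Lmod c n).restrict (ιY c h)) 0) :=
    finite_HH_of_closedImmersion N Γ(Z, W) (jY c h) _ hF 0
  letI := moduleΓ Γ(Z, W) ((Lmod c n).restrict (ιY c h))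
  have hfin : Module.Finite Γ(Z, W) (((Lmod c n).restrict (ιY c h)).val.obj (op ⊤)) :=
    finite_Γ_of_finite_HH Γ(Z, W) _
  have hle : (c ≫ pullback.fst f (pStr N A)) ⁻¹ᵁ W ≤ ιY c h ''ᵁ ⊤ := by
    rw [Scheme.Hom.image_top_eq_opensRange, opensRange_ιY]
  have hge : ιY c h ''ᵁ ⊤ ≤ (c ≫ pullback.fst f (pStr N A)) ⁻¹ᵁ W := by
    rw [Scheme.Hom.image_top_eq_opensRange, opensRange_ιY]
  -- the key compatibility of scalars
  have hkey : ∀ b : Γ(Z, W),
      (Z'.presheaf.map (homOfLE hle).op).hom (((ιY c h).appIso ⊤).inv.hom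
        (Coh.toGlobal (jY c h ≫ pStr N Γ(Z, W)) b)) =
      ((c ≫ pullback.fst f (pStr N A)).app W).hom b := by
    intro b
    set π := c ≫ pullback.fst f (pStr N A) with hπ
    have e0 : (⊤ : (Y c h).Opens) ≤ ((jY c h ≫ pStr N Γ(Z, W)) ≫ hW.fromSpec) ⁻¹ᵁ W := by
      rw [← ιY_π]
      intro x _
      have : (ιY c h) x ∈ (ιY c h).opensRange := ⟨x, rfl⟩
      rw [opensRange_ιY] at this
      exact this
    have e1 : (⊤ : (Y c h).Opens) ≤ (ιY c h ≫ π) ⁻¹ᵁ W := by
      rw [ιY_π]; exact e0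
    have h1 : Coh.toGlobal (jY c h ≫ pStr N Γ(Z, W)) b =
        ((ιY c h ≫ π).appLE W ⊤ e1).hom b := by
      rw [appLE_of_eq (ιY_π c h)]
      exact (appLE_comp_fromSpec hW (jY c h ≫ pStr N Γ(Z, W)) e0 b).symm
    have h2 : (ιY c h ≫ π).appLE W ⊤ e1 =
        π.app W ≫ Z'.presheaf.map (homOfLE hge).op ≫ ((ιY c h).appIso ⊤).hom := by
      rw [Scheme.Hom.comp_appLE, Scheme.Hom.appIso_hom', Scheme.Hom.map_appLE]
    rw [h1, h2]
    change (Z'.presheaf.map (homOfLE hle).op).hom (((ιY c h).appIso ⊤).inv.hom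
      (((ιY c h).appIso ⊤).hom.hom ((Z'.presheaf.map (homOfLE hge).op).hom
        ((π.app W).hom b)))) = _
    have h3 : ∀ y, ((ιY c h).appIso ⊤).inv.hom (((ιY c h).appIso ⊤).hom.hom y) = y := fun y =>
      congrArg (fun t => t.hom y) ((ιY c h).appIso ⊤).hom_inv_id
    rw [h3]
    have h4 : Z'.presheaf.map (homOfLE hge).op ≫ Z'.presheaf.map (homOfLE hle).op = 𝟙 _ := by
      rw [← Functor.map_comp]
      exact (congrArg _ (Subsingleton.elim _ _)).trans (Z'.presheaf.map_id _)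
    exact congrArg (fun t => t.hom ((π.app W).hom b)) h4
  let θ : ((Lmod c n).restrict (ιY c h)).val.obj (op ⊤) →ₗ[Γ(Z, W)]
      Γ((Scheme.Modules.pushforward (c ≫ pullback.fst f (pStr N A))).obj (Lmod c n), W) :=
    { toFun := fun s => (Lmod c n).presheaf.map (homOfLE hle).op
        (show Γ(Lmod c n, ιY c h ''ᵁ ⊤) from s)
      map_add' := fun s t => map_add _ _ _
      map_smul' := fun b s => by
        change (Lmod c n).presheaf.map (homOfLE hle).op
          (show Γ(Lmod c n, ιY c h ''ᵁ ⊤) from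
            ((((ιY c h).appIso ⊤).inv.hom (Coh.toGlobal (jY c h ≫ pStr N Γ(Z, W)) b)) •
              (show Γ(Lmod c n, ιY c h ''ᵁ ⊤) from s))) = _
        rw [Scheme.Modules.map_smul]
        erw [hkey b]
        rfl }
  refine Module.Finite.of_surjective θ ?_
  intro t
  refine ⟨(Lmod c n).presheaf.map (homOfLE hge).op (show Γ(Lmod c n, _) from t), ?_⟩
  change (Lmod c n).presheaf.map (homOfLE hle).op
    ((Lmod c n).presheaf.map (homOfLE hge).op (show Γ(Lmod c n, _) from t)) = t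
  have h5 : (Lmod c n).presheaf.map (homOfLE hge).op ≫
      (Lmod c n).presheaf.map (homOfLE hle).op = 𝟙 _ := by
    rw [← Functor.map_comp]
    exact (congrArg _ (Subsingleton.elim _ _)).trans ((Lmod c n).presheaf.map_id _)
  exact congrArg (fun φ => φ.hom t) h5

end Groth.Agent.LD.PF
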