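import Groth.Agent.Lib.Lead.PF.Coh
import Groth.Agent.Lib.Lead.CohLES.Finite
import Groth.Agent.Lib.Lead.CohLES.PushEquiv
import Groth.Agent.Lib.Lead.KS.Chase
import Groth.Agent.Lib.Lead.QC.PushFin
import Groth.Agent.Lib.Lead.QC.SuppSES
import Groth.Agent.S0818

/-! # Finiteness of coherent cohomology for proper schemes over a noetherian ring: assembly. -/

set_option autoImplicit false
universe u
open CategoryTheory Limits AlgebraicGeometry TopologicalSpace Opposite

namespace Groth.Agent.LD.PF

open Chow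

section TwoOfThree

variable (A : Type u) [CommRing A] [IsNoetherianRing A] {X : Scheme.{u}}
  [X.Over (Spec (CommRingCat.of A))]

/-- the property "all cohomology groups are finite". -/
def FinCoh (F : X.Modules) : Prop := ∀ p : ℕ, Module.Finite A (Coh.HH X F p)

lemma finCoh_of_iso {M N : X.Modules} (e : M ≅ N) (h : FinCoh A M) : FinCoh A N := fun p =>
  haveI := h p
  Module.Finite.equiv (CL.HHisoEquiv A e p)

variable {S : ShortComplex X.Modules} (hS : S.ShortExact)

include hS in
lemma finCoh_X₃ (h1 : FinCoh A S.X₁) (h2 : FinCoh A S.X₂) : FinCoh A S.X₃ := fun p =>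
  haveI := h1 (p + 1)
  haveI := h2 p
  CL.finite_of_exact (CL.HHmap A S.g p) (CL.HHδ hS A p) (CL.exact₃ hS A p)

include hS in
lemma finCoh_X₂ (h1 : FinCoh A S.X₁) (h3 : FinCoh A S.X₃) : FinCoh A S.X₂ := fun p =>
  haveI := h1 p
  haveI := h3 p
  CL.finite_of_exact (CL.HHmap A S.f p) (CL.HHmap A S.g p) (CL.exact₂ hS A p)

include hS in
lemma finCoh_X₁ (h2 : FinCoh A S.X₂) (h3 : FinCoh A S.X₃) : FinCoh A S.X₁ := by
  intro p
  cases p with
  | zero =>
    haveI := h2 0
    refine CL.finite_of_exact (0 : PUnit.{u+1} →ₗ[A] Coh.HH X S.X₁ 0) (CL.HHmap A S.f 0) ?_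
    intro x hx
    refine ⟨PUnit.unit, ?_⟩
    haveI : Mono ((SheafOfModules.toSheaf X.ringCatSheaf).map S.f) :=
      (SC.shortExact_toSheaf hS).mono_f
    have hinj := Abelian.Ext.postcomp_mk₀_injective_of_mono
      (SC.constZ (SC.JX X)) ((SheafOfModules.toSheaf X.ringCatSheaf).map S.f)
    exact (hinj (hx.trans (map_zero _).symm)).symm
  | succ p =>
    haveI := h2 (p + 1)
    haveI := h3 p
    exact CL.finite_of_exact (CL.HHδ hS A p) (CL.HHmap A S.f (p + 1)) (CL.exact₁ hS A p)

end TwoOfThree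

/-- hypothesis: projective space commutes with base change (to be supplied). -/
def BCHyp (A : Type u) [CommRing A] : Prop :=
  ∀ (N : ℕ) (B : Type u) [CommRing B] (φ : A →+* B), Nonempty (ProjBC N φ)

/-- hypothesis: the linear degenerate Leray isomorphism (to be supplied). -/
def LerayHyp (A : Type u) [CommRing A] : Prop :=
  ∀ (X Y : Scheme.{u}) [X.Over (Spec (CommRingCat.of A))] [Y.Over (Spec (CommRingCat.of A))]
    (π : X ⟶ Y) [π.IsOver (Spec (CommRingCat.of A))] (G : X.Modules),
    (∀ q : ℕ, IsZero (((SC.pushAb π.base).rightDerived (q + 1)).obj (Coh.toAb G))) →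
    ∀ n : ℕ, Nonempty (Coh.HH Y ((Scheme.Modules.pushforward π).obj G) n ≃ₗ[A] Coh.HH X G n)

/-- hypothesis: generic stalk and support of the dévissage sheaf (to be supplied). -/
def StalkHyp : Prop :=
  ∀ (X Z Z' : Scheme.{u}) (i : Z ⟶ X) [IsClosedImmersion i] [IsIntegral Z] (π : Z' ⟶ Z)
    (X₀ : Z.Opens), (X₀ : Set Z).Nonempty → IsIso (π ∣_ X₀) →
    ∀ (L : Z'.Modules), PicF.IsInvertible L →
    Coh.IsCoh ((Scheme.Modules.pushforward i).obj ((Scheme.Modules.pushforward π).obj L)) →
    IsSimpleModule (X.presheaf.stalk (i (genericPoint Z)))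
      ↑(((Scheme.Modules.pushforward i).obj
        ((Scheme.Modules.pushforward π).obj L)).presheaf.stalk (i (genericPoint Z))) ∧
    CohB1.support ((Scheme.Modules.pushforward i).obj ((Scheme.Modules.pushforward π).obj L)) =
      Set.range ⇑i

/-- a simple module over a local ring is isomorphic to the residue field. -/
lemma nonempty_linearEquiv_residueField_of_isSimpleModule (R : Type*) [CommRing R] [IsLocalRing R]
    (M : Type*) [AddCommGroup M] [Module R M] [IsSimpleModule R M] :
    Nonempty (M ≃ₗ[R] IsLocalRing.ResidueField R) := by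
  obtain ⟨I, hI, ⟨e⟩⟩ := (isSimpleModule_iff_quot_maximal (R := R) (M := M)).mp inferInstance
  have : I = IsLocalRing.maximalIdeal R := IsLocalRing.eq_maximalIdeal hI
  subst this
  exact ⟨e⟩

end Groth.Agent.LD.PF
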